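import Cfsg.Agent.MaxSub.OrthVectorGL

/-!
Stabilisers in `Ω` of non-degenerate subspaces whose two sides have dimensions at least four and
three, odd characteristic; no totally singular plane inside a side is needed (helper35).
-/

set_option autoImplicit false
set_option linter.unusedSectionVars false

namespace Cfsg.Agent.OmegaOdd35

open QuadraticMap Cfsg.Agent.UnitaryOrthogonal Cfsg.Agent.OrthStab

variable {F : Type*} [Field F] [Finite F] {V : Type*} [AddCommGroup V] [Module F V]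
variable [FiniteDimensional F V] {Q : QuadraticForm F V} {W₁ W₂ : Submodule F V}

/-- A singular centre on the first side reaching into the second. -/
def Centre (Q : QuadraticForm F V) (W₁ W₂ : Submodule F V) (M : Subgroup (orth Q)) : Prop :=
  ∃ d ∈ W₁, Q d = 0 ∧ d ≠ 0 ∧ ∃ y ∈ W₂, y ≠ 0 ∧ eich Q d y ∈ M

/-- A singular centre on one of the sides reaching into the other. -/
def Mixed (Q : QuadraticForm F V) (W₁ W₂ : Submodule F V) (M : Subgroup (orth Q)) : Prop :=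
  Centre Q W₁ W₂ M ∨ Centre Q W₂ W₁ M

/-- One more linear condition costs one dimension. -/
theorem finrank_inf_ker (W : Submodule F V) (φ : V →ₗ[F] F) :
    Module.finrank F W ≤ Module.finrank F ↥(W ⊓ LinearMap.ker φ) + 1 := by
  have e1 := Submodule.finrank_sup_add_finrank_inf_eq W (LinearMap.ker φ)
  have e2 := LinearMap.finrank_range_add_finrank_ker φ
  have e3 := Submodule.finrank_le (LinearMap.range φ)
  have e4 := Submodule.finrank_le (W ⊔ LinearMap.ker φ)
  rw [Module.finrank_self] at e3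
  omega

section Side

variable (h : IsOrthPair Q W₁ W₂) (hd : 3 ≤ Module.finrank F W₁) (h2 : (2 : F) ≠ 0)
include h hd h2

omit hd h2 in
/-- A vector of a side orthogonal to the side vanishes. -/
theorem eq_zero_of_perp {b : V} (hb : b ∈ W₁) (hp : ∀ y ∈ W₁, polar Q b y = 0) : b = 0 :=
  h.nd b fun v => by
    obtain ⟨v₁, hv₁, v₂, hv₂, rfl⟩ := h.exists_add v
    rw [polar_add_right, hp v₁ hv₁, h.orth b hb v₂ hv₂, add_zero]

omit hd h2 in
/-- A partner of a singular vector orthogonal to a given vector off its line. -/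
theorem exists_partner {u a : V} (hu : u ∈ W₁) (hun : u ∉ Submodule.span F {a}) (ha : a ∈ W₁) :
    ∃ f ∈ W₁, polar Q f u = 1 ∧ polar Q f a = 0 := by
  obtain ⟨f, hf, hfu, hfS⟩ := h.exists_dual hu hun
  exact ⟨f, hf, hfu, hfS a ha (Submodule.mem_span_singleton_self a)⟩

/-- A side has an anisotropic vector orthogonal to a singular vector and to a vector orthogonal to
it that is zero or anisotropic. -/
theorem exists_aniso {u a : V} (hu : u ∈ W₁) (huQ : Q u = 0) (hu0 : u ≠ 0) (ha : a ∈ W₁)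
    (hau : polar Q u a = 0) (ha' : a = 0 ∨ (Q a ≠ 0 ∧ 4 ≤ Module.finrank F W₁)) :
    ∃ c ∈ W₁, Q c ≠ 0 ∧ polar Q u c = 0 ∧ polar Q a c = 0 := by
  have hun : u ∉ Submodule.span F {a} := fun hm => by
    obtain ⟨r, hr⟩ := Submodule.mem_span_singleton.mp hm
    rcases ha' with e | ⟨hQa, -⟩
    · exact hu0 (by rw [← hr, e, smul_zero])
    · rw [← hr, form_smul] at huQ
      have hr0 : r = 0 := mul_self_eq_zero.mp ((mul_eq_zero.mp huQ).resolve_right hQa)
      exact hu0 (by rw [← hr, hr0, zero_smul])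
  obtain ⟨f, hf, hfu, hfa⟩ := exists_partner h hu hun ha
  obtain ⟨K, hK⟩ : ∃ K, K = W₁ ⊓ LinearMap.ker (polarBilin Q u) ⊓ LinearMap.ker (polarBilin Q f) ⊓
      LinearMap.ker (polarBilin Q a) := ⟨_, rfl⟩
  have hK0 : 1 ≤ Module.finrank F K := by
    have e1 := finrank_inf_ker W₁ (polarBilin Q u)
    have e2 := finrank_inf_ker (W₁ ⊓ LinearMap.ker (polarBilin Q u)) (polarBilin Q f)
    rcases ha' with e | ⟨-, h4⟩
    · have hz : LinearMap.ker (polarBilin Q a) = ⊤ := by rw [e, map_zero, LinearMap.ker_zero]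
      rw [hK, hz, inf_top_eq]
      omega
    · have e3 := finrank_inf_ker (W₁ ⊓ LinearMap.ker (polarBilin Q u) ⊓
        LinearMap.ker (polarBilin Q f)) (polarBilin Q a)
      rw [hK]
      omega
  have hmem : ∀ x ∈ K, x ∈ W₁ ∧ polar Q u x = 0 ∧ polar Q f x = 0 ∧ polar Q a x = 0 := by
    rw [hK]
    rintro x ⟨⟨⟨hx, h1⟩, h2'⟩, h3⟩
    exact ⟨hx, h1, h2', h3⟩
  by_contra hcon
  simp only [not_exists, not_and] at hcon
  have hsing : ∀ x ∈ K, Q x = 0 := fun x hx => by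
    obtain ⟨hxW, h1, -, h3⟩ := hmem x hx
    by_contra hQ
    exact hcon x hxW hQ h1 h3
  obtain ⟨x, hx, hx0⟩ := Submodule.exists_mem_ne_zero_of_ne_bot (p := K)
    (fun e => by rw [e, finrank_bot] at hK0; omega)
  obtain ⟨hxW, h1, h2', h3⟩ := hmem x hx
  refine hx0 (eq_zero_of_perp h hxW fun y hy => ?_)
  obtain ⟨r, hr⟩ : ∃ r : F, r * polar Q a a = polar Q a y := by
    rcases ha' with e | ⟨hQa, -⟩
    · exact ⟨0, by rw [e, polar_zero_left, polar_zero_left, zero_mul]⟩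
    · have : polar Q a a ≠ 0 := by rw [polar_self_eq]; exact mul_ne_zero h2 hQa
      exact ⟨polar Q a y / polar Q a a, div_mul_cancel₀ _ this⟩
  obtain ⟨t, ht⟩ : ∃ t, t = polar Q f y - polar Q u y * polar Q f f := ⟨_, rfl⟩
  have hy' : y - polar Q u y • f - t • u - r • a ∈ K := by
    rw [hK]
    refine ⟨⟨⟨sub_mem (sub_mem (sub_mem hy (W₁.smul_mem _ hf)) (W₁.smul_mem _ hu))
      (W₁.smul_mem _ ha), ?_⟩, ?_⟩, ?_⟩ <;> simp only [SetLike.mem_coe, LinearMap.mem_ker,
        polarBilin_apply_apply, polar_sub_right, polar_smul_right, smul_eq_mul]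
    · rw [polar_comm Q u f, hfu, polar_self_eq, huQ, hau]; ring
    · rw [hfu, hfa, ht]; ring
    · rw [polar_comm Q a f, hfa, polar_comm Q a u, hau]; linear_combination -hr
  have h4 := form_add (Q := Q) x (y - polar Q u y • f - t • u - r • a)
  rw [hsing x hx, hsing _ hy', hsing _ (add_mem hx hy'), add_zero, zero_add] at h4
  simp only [polar_sub_right, polar_smul_right, smul_eq_mul, polar_comm Q x f, h2',
    polar_comm Q x u, h1, polar_comm Q x a, h3, mul_zero, sub_zero] at h4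
  exact h4.symm

omit h h2 in
/-- A singular vector of a side of dimension at least four orthogonal to a vector. -/
theorem exists_sing_perp (h4 : 4 ≤ Module.finrank F W₁) (a : V) :
    ∃ u ∈ W₁, Q u = 0 ∧ u ≠ 0 ∧ polar Q a u = 0 := by
  obtain ⟨u, ⟨hu, hua⟩, hu0, huQ⟩ := exists_singular_mem (Q := Q)
    (W₁ ⊓ LinearMap.ker (polarBilin Q a)) (by
      have := finrank_inf_ker W₁ (polarBilin Q a)
      omega)
  exact ⟨u, hu, huQ, hu0, hua⟩

/-- A singular vector of a side not orthogonal to a given vector. -/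
theorem exists_sing_dual {y : V} (hy : y ∈ W₁) (hy0 : y ≠ 0) :
    ∃ w ∈ W₁, Q w = 0 ∧ polar Q w y ≠ 0 := by
  obtain ⟨e, he, he0, heQ⟩ := exists_singular_mem (Q := Q) W₁ hd
  by_cases hey : polar Q e y = 0
  swap
  · exact ⟨e, he, heQ, hey⟩
  obtain ⟨f, hf, hfe, -⟩ := h.exists_dual (S := ⊥) he (by simpa using he0)
  obtain ⟨g, hg, hgy, -⟩ := h.exists_dual (S := ⊥) hy (by simpa using hy0)
  obtain ⟨x, hx, hxe, hxy⟩ : ∃ x ∈ W₁, polar Q x e ≠ 0 ∧ polar Q x y ≠ 0 := by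
    by_cases h1 : polar Q f y = 0
    · by_cases h3 : polar Q g e = 0
      · refine ⟨f + g, add_mem hf hg, ?_, ?_⟩
        · rw [polar_add_left, hfe, h3, add_zero]; exact one_ne_zero
        · rw [polar_add_left, hgy, h1, zero_add]; exact one_ne_zero
      · exact ⟨g, hg, h3, by rw [hgy]; exact one_ne_zero⟩
    · exact ⟨f, hf, by rw [hfe]; exact one_ne_zero, h1⟩
  refine ⟨x + (-Q x / polar Q x e) • e, add_mem hx (W₁.smul_mem _ he), ?_, ?_⟩
  · rw [form_add, form_smul, heQ, polar_smul_right, smul_eq_mul, div_mul_cancel₀ _ hxe]; ring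
  · rwa [polar_add_left, polar_smul_left, hey, smul_zero, add_zero]

/-- Singular vectors span a side. -/
theorem le_of_sing {S : Submodule F V} (hS : ∀ x ∈ W₁, Q x = 0 → x ∈ S) : W₁ ≤ S := by
  obtain ⟨e, he, he0, heQ⟩ := exists_singular_mem (Q := Q) W₁ hd
  obtain ⟨f, hf, hfe, -⟩ := h.exists_dual (S := ⊥) he (by simpa using he0)
  have step : ∀ x ∈ W₁, polar Q x e ≠ 0 → x ∈ S := by
    intro x hx hne
    obtain ⟨t, ht⟩ : ∃ t, t = -(Q x) / polar Q x e := ⟨_, rfl⟩
    have h1 : x + t • e ∈ S := hS _ (add_mem hx (W₁.smul_mem _ he)) (by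
      rw [form_add, form_smul, heQ, polar_smul_right, smul_eq_mul, mul_zero, add_zero, ht,
        div_mul_cancel₀ _ hne, add_neg_cancel])
    simpa using sub_mem h1 (S.smul_mem t (hS e he heQ))
  intro x hx
  by_cases hne : polar Q x e = 0
  · have h1 := step f hf (by rw [hfe]; exact one_ne_zero)
    have h3 := step (x + f) (add_mem hx hf) (by
      rw [polar_add_left, hne, hfe, zero_add]; exact one_ne_zero)
    simpa using sub_mem h3 h1
  · exact step x hx hne

end Side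

section Root

variable {M : Subgroup (orth Q)}

theorem root_swap {p q : V} (hp : Q p = 0) (hq : Q q = 0) (hpq : polar Q p q = 0)
    (hm : eich Q p q ∈ M) : eich Q q (-p) ∈ M := by
  convert hm using 1
  refine orth_ext fun x => ?_
  rw [eich_apply hp hpq, eich_apply hq (by rw [polar_neg_right, polar_comm, hpq, neg_zero]),
    QuadraticMap.map_neg, hp, hq, polar_neg_left]
  module

variable {α u c : V} (hα : Q α = 0) (hu : Q u = 0) (huc : polar Q u c = 0)
  (huα : polar Q u α = 0) (hcα : polar Q c α = 0)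
include hα hu huc huα hcα

/-- Conjugation by a root element fixing the centre. -/
theorem root_conj {β : V} (hβ : eich Q α β ∈ M) (hk : eich Q u c ∈ M) :
    eich Q α ((eich Q u c).1 β) ∈ M := by
  have hkα : (eich Q u c).1 α = α := by
    rw [eich_apply hu huc, huα, hcα]; simp
  have := mul_mem (mul_mem hk hβ) (inv_mem hk)
  rwa [conj_eich, hkα] at this

/-- Conjugates by the root elements with opposite entries give a multiple of the centre. -/
theorem root_pair {β : V} (hαβ : polar Q α β = 0) (hβ : eich Q α β ∈ M) (hk : eich Q u c ∈ M)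
    (hk' : eich Q u (-c) ∈ M) :
    eich Q α ((-(2 * Q c * polar Q u β)) • u) ∈ M := by
  have huc' : polar Q u (-c) = 0 := by rw [polar_neg_right, huc, neg_zero]
  have h1 := root_conj hα hu huc huα hcα hβ hk
  have h2 := root_conj (c := -c) hα hu huc' huα (by rw [polar_neg_left, hcα, neg_zero]) hβ hk'
  rw [eich_apply hu huc] at h1
  rw [eich_apply hu huc'] at h2
  obtain ⟨z, hz⟩ : ∃ z, z = β + polar Q u β • c - polar Q c β • u - (Q c * polar Q u β) • u :=
    ⟨_, rfl⟩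
  obtain ⟨z', hz'⟩ : ∃ z', z' =
      β + polar Q u β • -c - polar Q (-c) β • u - (Q (-c) * polar Q u β) • u := ⟨_, rfl⟩
  rw [← hz] at h1
  rw [← hz'] at h2
  have pz : polar Q α z = 0 := by
    rw [hz]
    simp [polar_add_right, polar_sub_right, polar_smul_right, hαβ, polar_comm Q α c, hcα,
      polar_comm Q α u, huα]
  have pz' : polar Q α z' = 0 := by
    rw [hz']
    simp [polar_add_right, polar_sub_right, polar_smul_right, hαβ, polar_comm Q α c, hcα,
      polar_comm Q α u, huα]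
  have h3 := mul_mem (mul_mem h1 h2) (inv_mem (mul_mem hβ hβ))
  have hp : polar Q α (z + z') = 0 := by rw [polar_add_right, pz, pz', add_zero]
  have hb : polar Q α (β + β) = 0 := by rw [polar_add_right, hαβ, add_zero]
  rw [eich_mul hα pz pz', eich_mul hα hαβ hαβ, eich_inv hα hb,
    eich_mul hα hp (by rw [polar_neg_right, hb, neg_zero])] at h3
  convert! h3 using 2
  rw [hz, hz', QuadraticMap.map_neg, polar_neg_left]
  module

/-- The shift along the centre of an orthogonal root element. -/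
theorem root_shift {β : V} (hαβ : polar Q α β = 0) (huβ : polar Q u β = 0) (hβ : eich Q α β ∈ M)
    (hk : eich Q u c ∈ M) : eich Q α ((-polar Q c β) • u) ∈ M := by
  have h1 := root_conj hα hu huc huα hcα hβ hk
  rw [eich_apply hu huc, huβ] at h1
  simp only [zero_smul, mul_zero, add_zero, sub_zero] at h1
  have hp : polar Q α (β - polar Q c β • u) = 0 := by
    rw [polar_sub_right, polar_smul_right, hαβ, polar_comm Q α u, huα]; simp
  have h3 := mul_mem h1 (inv_mem hβ)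
  rw [eich_inv hα hαβ, eich_mul hα hp (by rw [polar_neg_right, hαβ, neg_zero])] at h3
  convert! h3 using 2
  module

end Root

section Mixed

variable {M : Subgroup (orth Q)}

theorem hH_symm (h : IsOrthPair Q W₁ W₂)
    (hH : ∀ g ∈ eichGroup Q, (∀ x ∈ W₁, g.1 x ∈ W₁) → g ∈ M) :
    ∀ g ∈ eichGroup Q, (∀ x ∈ W₂, g.1 x ∈ W₂) → g ∈ M :=
  fun g hg hg2 => hH g hg (h.symm.map_mem₂ _ hg2)

variable (h : IsOrthPair Q W₁ W₂) (hd : 3 ≤ Module.finrank F W₁) (h2 : (2 : F) ≠ 0)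
  (hH : ∀ g ∈ eichGroup Q, (∀ x ∈ W₁, g.1 x ∈ W₁) → g ∈ M)
include h hd h2 hH

omit hd h2 in
theorem eich_mem₁ {u z : V} (hu : u ∈ W₁) (hz : z ∈ W₁) (hQu : Q u = 0) (huz : polar Q u z = 0) :
    eich Q u z ∈ M :=
  hH _ (eich_mem_eichGroup _ _) fun x hx => by
    rw [eich_apply hQu huz]
    exact sub_mem (sub_mem (add_mem hx (W₁.smul_mem _ hz)) (W₁.smul_mem _ hu)) (W₁.smul_mem _ hu)

omit hd h2 in
/-- A centre in a side with an entry off it. -/
theorem centre_of_entry {α b₁ b₂ : V} (hα : α ∈ W₁) (hαQ : Q α = 0) (hα0 : α ≠ 0) (hb₁ : b₁ ∈ W₁)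
    (hb₂ : b₂ ∈ W₂) (hb₂0 : b₂ ≠ 0) (hαβ : polar Q α (b₁ + b₂) = 0)
    (hM : eich Q α (b₁ + b₂) ∈ M) : Centre Q W₁ W₂ M := by
  have h1 : polar Q α b₁ = 0 := by rwa [polar_add_right, h.orth α hα b₂ hb₂, add_zero] at hαβ
  have := mul_mem hM (eich_mem₁ h hH hα (neg_mem hb₁) hαQ (by rw [polar_neg_right, h1, neg_zero]))
  rw [eich_mul hαQ hαβ (by rw [polar_neg_right, h1, neg_zero]),
    show b₁ + b₂ + -b₁ = b₂ by abel] at this
  exact ⟨α, hα, hαQ, hα0, b₂, hb₂, hb₂0, this⟩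

omit hd h2 in
/-- A root element at a general centre with a singular entry in a side. -/
theorem centre_of_plane {a₁ a₂ u : V} (ha₁ : a₁ ∈ W₁) (ha₂ : a₂ ∈ W₂) (ha₂0 : a₂ ≠ 0)
    (hα : Q (a₁ + a₂) = 0) (hu : u ∈ W₁) (huQ : Q u = 0) (hu0 : u ≠ 0)
    (huα : polar Q (a₁ + a₂) u = 0) (hM : eich Q (a₁ + a₂) u ∈ M) : Centre Q W₁ W₂ M := by
  have := root_swap hα huQ huα hM
  rw [neg_add] at this
  exact centre_of_entry h hH hu huQ hu0 (neg_mem ha₁) (neg_mem ha₂) (neg_ne_zero.mpr ha₂0)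
    (by rw [← neg_add, polar_neg_right, polar_comm, huα, neg_zero]) this

/-- A root element at a centre with a singular component. -/
theorem centre_of_singular_component {a₁ a₂ : V} {β : V} (ha₁ : a₁ ∈ W₁) (ha₂ : a₂ ∈ W₂)
    (ha₁0 : a₁ ≠ 0) (ha₂0 : a₂ ≠ 0) (ha₁Q : Q a₁ = 0) (hα : Q (a₁ + a₂) = 0)
    (hαβ : polar Q (a₁ + a₂) β = 0) (hβn : ∀ r : F, β ≠ r • (a₁ + a₂))
    (hM : eich Q (a₁ + a₂) β ∈ M) :
    Mixed Q W₁ W₂ M ∨ ∃ k : F, β - k • a₁ ∈ W₂ := by
  have haa : polar Q a₁ (a₁ + a₂) = 0 := by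
    rw [polar_add_right, polar_self_eq, ha₁Q, h.orth a₁ ha₁ a₂ ha₂]; simp
  have hcα : ∀ c ∈ W₁, polar Q a₁ c = 0 → polar Q c (a₁ + a₂) = 0 := fun c hc hac => by
    rw [polar_add_right, polar_comm Q c a₁, hac, h.orth c hc a₂ ha₂, add_zero]
  by_cases hab : polar Q a₁ β = 0
  swap
  · obtain ⟨c, hc, hcQ, hac, -⟩ := exists_aniso h hd h2 ha₁ ha₁Q ha₁0 W₁.zero_mem
      (polar_zero_right Q a₁) (Or.inl rfl)
    have hr := root_pair hα ha₁Q hac haa (hcα c hc hac) hαβ hM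
      (eich_mem₁ h hH ha₁ hc ha₁Q hac)
      (eich_mem₁ h hH ha₁ (neg_mem hc) ha₁Q (by rw [polar_neg_right, hac, neg_zero]))
    refine Or.inl (Or.inl (centre_of_plane h hH ha₁ ha₂ ha₂0 hα (W₁.smul_mem _ ha₁)
      (by rw [form_smul, ha₁Q, mul_zero])
      (smul_ne_zero (neg_ne_zero.mpr (mul_ne_zero (mul_ne_zero h2 hcQ) hab)) ha₁0)
      (by rw [polar_smul_right, polar_comm Q (a₁ + a₂) a₁, haa, smul_zero]) hr))
  by_cases hall : ∀ c ∈ W₁, polar Q a₁ c = 0 → polar Q c β = 0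
  swap
  · simp only [not_forall] at hall
    obtain ⟨c, hc, hac, hcb⟩ := hall
    have hr := root_shift hα ha₁Q hac haa (hcα c hc hac) hαβ hab hM
      (eich_mem₁ h hH ha₁ hc ha₁Q hac)
    exact Or.inl (Or.inl (centre_of_plane h hH ha₁ ha₂ ha₂0 hα (W₁.smul_mem _ ha₁)
      (by rw [form_smul, ha₁Q, mul_zero]) (smul_ne_zero (neg_ne_zero.mpr hcb) ha₁0)
      (by rw [polar_smul_right, polar_comm Q (a₁ + a₂) a₁, haa, smul_zero]) hr))
  obtain ⟨b₁, hb₁, b₂, hb₂, rfl⟩ := h.exists_add β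
  obtain ⟨f, hf, hfa, -⟩ := h.exists_dual (S := ⊥) ha₁ (by simpa using ha₁0)
  obtain ⟨k, hk⟩ : ∃ k, k = polar Q f b₁ := ⟨_, rfl⟩
  have hb : b₁ - k • a₁ = 0 := by
    refine eq_zero_of_perp h (sub_mem hb₁ (W₁.smul_mem _ ha₁)) fun y hy => ?_
    have h1 := hall (y - polar Q a₁ y • f) (sub_mem hy (W₁.smul_mem _ hf)) (by
      rw [polar_sub_right, polar_smul_right, polar_comm Q a₁ f, hfa]; simp)
    rw [polar_add_right, h.orth _ (sub_mem hy (W₁.smul_mem _ hf)) b₂ hb₂, add_zero,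
      polar_sub_left, polar_smul_left, smul_eq_mul] at h1
    rw [polar_sub_left, polar_smul_left, smul_eq_mul, polar_comm Q b₁ y, hk]
    linear_combination h1
  rw [sub_eq_zero] at hb
  exact Or.inr ⟨k, by rw [hb, add_sub_cancel_left]; exact hb₂⟩

end Mixed

section Spread

variable {M : Subgroup (orth Q)} (h : IsOrthPair Q W₁ W₂) (hd : 3 ≤ Module.finrank F W₂)
  (h2 : (2 : F) ≠ 0) (hH : ∀ g ∈ eichGroup Q, (∀ x ∈ W₁, g.1 x ∈ W₁) → g ∈ M)
include h hd h2 hH

/-- A centre in the first side reaches every vector of the second. -/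
theorem centre_all {d y : V} (hdW : d ∈ W₁) (hdQ : Q d = 0) (hy : y ∈ W₂) (hy0 : y ≠ 0)
    (hM : eich Q d y ∈ M) : ∀ z ∈ W₂, eich Q d z ∈ M := by
  have hperp : ∀ z ∈ W₂, polar Q d z = 0 := fun z hz => h.orth d hdW z hz
  let S : Submodule F V :=
    { carrier := {z | z ∈ W₂ ∧ ∀ t : F, eich Q d (t • z) ∈ M}
      zero_mem' := ⟨W₂.zero_mem, fun t => by rw [smul_zero, eich_zero]; exact one_mem M⟩
      add_mem' := fun {z z'} hz hz' => ⟨add_mem hz.1 hz'.1, fun t => by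
        rw [smul_add, ← eich_mul hdQ (hperp _ (W₂.smul_mem t hz.1)) (hperp _ (W₂.smul_mem t hz'.1))]
        exact mul_mem (hz.2 t) (hz'.2 t)⟩
      smul_mem' := fun c z hz => ⟨W₂.smul_mem c hz.1, fun t => by rw [smul_smul]; exact hz.2 _⟩ }
  -- a non-orthogonal entry spreads to a singular vector
  have step : ∀ z ∈ W₂, eich Q d z ∈ M → ∀ w ∈ W₂, Q w = 0 → polar Q w z ≠ 0 → w ∈ S := by
    intro z hz hzM w hw hwQ hwz
    have hw0 : w ≠ 0 := fun e => hwz (by rw [e, polar_zero_left])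
    obtain ⟨c, hc, hcQ, hwc, -⟩ := exists_aniso h.symm hd h2 hw hwQ hw0 W₂.zero_mem
      (polar_zero_right Q w) (Or.inl rfl)
    have sq : ∀ t : F, eich Q d ((-(2 * (t * t * Q c) * polar Q w z)) • w) ∈ M := fun t => by
      have h1 := root_pair (c := t • c) hdQ hwQ (by rw [polar_smul_right, hwc, smul_zero])
        (by rw [polar_comm]; exact hperp w hw)
        (by rw [polar_comm]; exact hperp _ (W₂.smul_mem t hc)) (hperp z hz) hzM
        (eich_mem₁ h.symm (hH_symm h hH) hw (W₂.smul_mem t hc) hwQ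
          (by rw [polar_smul_right, hwc, smul_zero]))
        (eich_mem₁ h.symm (hH_symm h hH) hw (neg_mem (W₂.smul_mem t hc)) hwQ
          (by rw [polar_neg_right, polar_smul_right, hwc, smul_zero, neg_zero]))
      rwa [form_smul] at h1
    refine ⟨hw, fun s => ?_⟩
    obtain ⟨m, hm⟩ : ∃ m, m = -(2 * Q c * polar Q w z) := ⟨_, rfl⟩
    have hm0 : m ≠ 0 := by rw [hm]; exact neg_ne_zero.mpr (mul_ne_zero (mul_ne_zero h2 hcQ) hwz)
    obtain ⟨x, hx⟩ : ∃ x, x = s / m := ⟨_, rfl⟩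
    have e : s • w = (-(2 * (((x + 1) / 2) * ((x + 1) / 2) * Q c) * polar Q w z)) • w +
        -((-(2 * (((x - 1) / 2) * ((x - 1) / 2) * Q c) * polar Q w z)) • w) := by
      rw [← neg_smul, ← add_smul]
      congr 1
      have h1 : s = x * m := by rw [hx, div_mul_cancel₀ _ hm0]
      rw [h1, hm]
      field_simp
      ring
    rw [e, ← eich_mul hdQ (hperp _ (W₂.smul_mem _ hw)) (hperp _ (neg_mem (W₂.smul_mem _ hw))),
      ← eich_inv hdQ (hperp _ (W₂.smul_mem _ hw))]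
    exact mul_mem (sq _) (inv_mem (sq _))
  obtain ⟨w, hw, hwQ, hwy⟩ := exists_sing_dual h.symm hd h2 hy hy0
  have hwS := step y hy hM w hw hwQ hwy
  have hw0 : w ≠ 0 := fun e => hwy (by rw [e, polar_zero_left])
  have hle : W₂ ≤ S := le_of_sing h.symm hd h2 fun x hx hxQ => by
    by_cases hxw : polar Q x w = 0
    swap
    · exact step w hw (by simpa using hwS.2 1) x hx hxQ hxw
    by_cases hx0 : x = 0
    · rw [hx0]; exact S.zero_mem
    obtain ⟨f, hf, hfw, -⟩ := h.symm.exists_dual (S := ⊥) hw (by simpa using hw0)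
    obtain ⟨g, hg, hgx, -⟩ := h.symm.exists_dual (S := ⊥) hx (by simpa using hx0)
    obtain ⟨v, hv, hvw, hvx⟩ : ∃ v ∈ W₂, polar Q v w ≠ 0 ∧ polar Q v x ≠ 0 := by
      by_cases h1 : polar Q f x = 0
      · by_cases h3 : polar Q g w = 0
        · refine ⟨f + g, add_mem hf hg, ?_, ?_⟩
          · rw [polar_add_left, hfw, h3, add_zero]; exact one_ne_zero
          · rw [polar_add_left, hgx, h1, zero_add]; exact one_ne_zero
        · exact ⟨g, hg, h3, by rw [hgx]; exact one_ne_zero⟩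
      · exact ⟨f, hf, by rw [hfw]; exact one_ne_zero, h1⟩
    obtain ⟨r, hr⟩ : ∃ r, r = -Q v / polar Q v w := ⟨_, rfl⟩
    have hv' : v + r • w ∈ W₂ := add_mem hv (W₂.smul_mem _ hw)
    have hv'Q : Q (v + r • w) = 0 := by
      rw [form_add, form_smul, hwQ, polar_smul_right, smul_eq_mul, hr, div_mul_cancel₀ _ hvw]; ring
    have hv'w : polar Q (v + r • w) w ≠ 0 := by
      rw [polar_add_left, polar_smul_left, polar_self_eq, hwQ]; simpa using hvw
    have h5 := step w hw (by simpa using hwS.2 1) _ hv' hv'Q hv'w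
    refine step _ hv' (by simpa using h5.2 1) x hx hxQ ?_
    rw [polar_add_right, polar_smul_right, hxw, smul_zero, add_zero, polar_comm]
    exact hvx
  exact fun z hz => by simpa using (hle hz).2 1

end Spread

section Main

variable {M : Subgroup (orth Q)} (h : IsOrthPair Q W₁ W₂) (hd : 4 ≤ Module.finrank F W₁)
  (hd' : 3 ≤ Module.finrank F W₂) (h2 : (2 : F) ≠ 0)
  (hH : ∀ g ∈ eichGroup Q, (∀ x ∈ W₁, g.1 x ∈ W₁) → g ∈ M)
include h hd hd' h2 hH

/-- Both components singular. -/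
theorem mixed_of_singular_components {a₁ a₂ β : V} (ha₁ : a₁ ∈ W₁) (ha₂ : a₂ ∈ W₂) (ha₁0 : a₁ ≠ 0)
    (ha₂0 : a₂ ≠ 0) (ha₁Q : Q a₁ = 0) (hα : Q (a₁ + a₂) = 0) (hαβ : polar Q (a₁ + a₂) β = 0)
    (hβn : ∀ r : F, β ≠ r • (a₁ + a₂)) (hM : eich Q (a₁ + a₂) β ∈ M) : Mixed Q W₁ W₂ M := by
  have ha₂Q : Q a₂ = 0 := by
    rwa [form_add, ha₁Q, h.orth a₁ ha₁ a₂ ha₂, zero_add, add_zero] at hα
  rcases centre_of_singular_component h (by omega) h2 hH ha₁ ha₂ ha₁0 ha₂0 ha₁Q hα hαβ hβn hM with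
    hm | ⟨k, hk⟩
  · exact hm
  obtain ⟨b, hb⟩ : ∃ b, b = β - k • (a₁ + a₂) := ⟨_, rfl⟩
  have hbW : b ∈ W₂ := by
    rw [hb, smul_add, ← sub_sub]; exact sub_mem hk (W₂.smul_mem _ ha₂)
  have hb0 : b ≠ 0 := fun e => hβn k (sub_eq_zero.mp (hb.symm.trans e))
  have hbe : b = β + (-k) • (a₁ + a₂) := by rw [hb]; module
  have hαb : polar Q (a₁ + a₂) b = 0 := by
    rw [hbe, polar_add_right, hαβ, polar_smul_right, polar_self_eq, hα]; simp
  have hbM : eich Q (a₁ + a₂) b ∈ M := by rw [hbe, eich_add_smul hα hαβ]; exact hM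
  rw [add_comm a₁ a₂] at hbM hαb hα
  by_cases hbQ : Q b = 0
  · have := root_swap hα hbQ hαb hbM
    rw [neg_add] at this
    exact Or.inr (centre_of_entry h.symm (hH_symm h hH) hbW hbQ hb0 (neg_mem ha₂) (neg_mem ha₁)
      (neg_ne_zero.mpr ha₁0) (by rw [← neg_add, polar_neg_right, polar_comm, hαb, neg_zero]) this)
  rcases centre_of_singular_component h.symm hd' h2 (hH_symm h hH) ha₂ ha₁ ha₂0 ha₁0 ha₂Q hα hαb
      (fun r e => hbQ (by rw [e, form_smul, hα, mul_zero])) hbM with hm | ⟨k', hk'⟩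
  · exact hm.symm
  · refine absurd ?_ hbQ
    rw [sub_eq_zero.mp (h.eq_zero hk' (sub_mem hbW (W₂.smul_mem _ ha₂))), form_smul, ha₂Q, mul_zero]

/-- A root element off both sides gives a centre in one of them reaching into the other. -/
theorem mixed_of_root {α β : V} (hα : Q α = 0) (hαβ : polar Q α β = 0)
    (hβn : ∀ r : F, β ≠ r • α) (hα0 : α ≠ 0) (hM : eich Q α β ∈ M)
    (h1 : ¬ (α ∈ W₁ ∧ β ∈ W₁)) (h2' : ¬ (α ∈ W₂ ∧ β ∈ W₂)) : Mixed Q W₁ W₂ M := by
  obtain ⟨a₁, ha₁, a₂, ha₂, rfl⟩ := h.exists_add α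
  by_cases ha₂0 : a₂ = 0
  · subst ha₂0
    obtain ⟨b₁, hb₁, b₂, hb₂, rfl⟩ := h.exists_add β
    exact Or.inl (centre_of_entry h hH (add_mem ha₁ W₁.zero_mem) hα hα0 hb₁ hb₂
      (fun e => h1 ⟨add_mem ha₁ W₁.zero_mem, by rw [e, add_zero]; exact hb₁⟩) hαβ hM)
  by_cases ha₁0 : a₁ = 0
  · subst ha₁0
    obtain ⟨b₂, hb₂, b₁, hb₁, rfl⟩ := h.symm.exists_add β
    exact Or.inr (centre_of_entry h.symm (hH_symm h hH) (add_mem W₂.zero_mem ha₂) hα hα0 hb₂ hb₁
      (fun e => h2' ⟨add_mem W₂.zero_mem ha₂, by rw [e, add_zero]; exact hb₂⟩) hαβ hM)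
  by_cases ha₁Q : Q a₁ = 0
  · exact mixed_of_singular_components h hd hd' h2 hH ha₁ ha₂ ha₁0 ha₂0 ha₁Q hα hαβ hβn hM
  obtain ⟨u, hu, huQ, hu0, hau⟩ := exists_sing_perp (Q := Q) (by omega) hd a₁
  have hua : polar Q u a₁ = 0 := by rw [polar_comm]; exact hau
  have huα : polar Q u (a₁ + a₂) = 0 := by
    rw [polar_add_right, hua, h.orth u hu a₂ ha₂, add_zero]
  obtain ⟨c, hc, hcQ, huc, hac⟩ :=
    exists_aniso h (by omega) h2 hu huQ hu0 ha₁ hua (Or.inr ⟨ha₁Q, hd⟩)
  have hcα : polar Q c (a₁ + a₂) = 0 := by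
    rw [polar_add_right, polar_comm Q c a₁, hac, h.orth c hc a₂ ha₂, add_zero]
  have plane : ∀ s : F, s ≠ 0 → eich Q (a₁ + a₂) (s • u) ∈ M → Mixed Q W₁ W₂ M := fun s hs hm =>
    Or.inl (centre_of_plane h hH ha₁ ha₂ ha₂0 hα (W₁.smul_mem _ hu)
      (by rw [form_smul, huQ, mul_zero]) (smul_ne_zero hs hu0)
      (by rw [polar_smul_right, polar_comm Q (a₁ + a₂) u, huα, smul_zero]) hm)
  by_cases huβ : polar Q u β = 0
  swap
  · exact plane _ (neg_ne_zero.mpr (mul_ne_zero (mul_ne_zero h2 hcQ) huβ))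
      (root_pair hα huQ huc huα hcα hαβ hM (eich_mem₁ h hH hu hc huQ huc)
        (eich_mem₁ h hH hu (neg_mem hc) huQ (by rw [polar_neg_right, huc, neg_zero])))
  have hun : a₁ ∉ Submodule.span F {u} := fun hm => by
    obtain ⟨r, hr⟩ := Submodule.mem_span_singleton.mp hm
    exact ha₁Q (by rw [← hr, form_smul, huQ, mul_zero])
  by_cases hβQ : Q β = 0
  swap
  · -- a commutator with a conjugate centre
    obtain ⟨e, he, hea, heS⟩ := h.exists_dual ha₁ hun
    have hue : polar Q u e = 0 := by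
      rw [polar_comm]; exact heS u hu (Submodule.mem_span_singleton_self u)
    have hk := eich_mem₁ h hH hu he huQ hue
    have hkα : (eich Q u e).1 (a₁ + a₂) = (a₁ + a₂) - u := by
      rw [eich_apply huQ hue, huα, polar_add_right, hea, h.orth e he a₂ ha₂]
      simp
    obtain ⟨δ, hδ⟩ : ∃ δ, δ = (a₁ + a₂) - u := ⟨_, rfl⟩
    have hδQ : Q δ = 0 := by rw [hδ, ← hkα, map_form, hα]
    obtain ⟨z, hz⟩ : ∃ z, z = (eich Q u e).1 β := ⟨_, rfl⟩
    have hδz : polar Q δ z = 0 := by rw [hδ, ← hkα, hz, map_polar, hαβ]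
    have hkβ : z = β - polar Q e β • u := by
      rw [hz, eich_apply huQ hue, huβ]; simp
    have hm1 : eich Q δ z ∈ M := by
      have := mul_mem (mul_mem hk hM) (inv_mem hk)
      rw [conj_eich, hkα] at this
      rwa [hδ, hz]
    have hαu : polar Q (a₁ + a₂) u = 0 := by rw [polar_comm]; exact huα
    have hαδ : polar Q (a₁ + a₂) δ = 0 := by
      rw [hδ, polar_sub_right, polar_self_eq, hα, hαu]; simp
    have hm2 := mul_mem (mul_mem hM hm1) (inv_mem hM)
    have h3 : (eich Q (a₁ + a₂) β).1 δ = δ := by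
      rw [eich_apply hα hαβ, hαδ, hδ, polar_sub_right, polar_comm Q β (a₁ + a₂), hαβ,
        polar_comm Q β u, huβ]
      simp
    have hαz : polar Q (a₁ + a₂) z = 0 := by
      rw [hkβ, polar_sub_right, polar_smul_right, hαβ, hαu]; simp
    have hβz : polar Q β z = 2 * Q β := by
      rw [hkβ, polar_sub_right, polar_smul_right, polar_self_eq, polar_comm Q β u, huβ]; simp
    rw [conj_eich, h3, eich_apply hα hαβ, hαz, hβz] at hm2
    simp only [zero_smul, mul_zero, add_zero, sub_zero] at hm2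
    have hp : polar Q δ (z - (2 * Q β) • (a₁ + a₂)) = 0 := by
      rw [polar_sub_right, polar_smul_right, hδz, polar_comm Q δ (a₁ + a₂), hαδ]; simp
    have hm3 := mul_mem hm2 (inv_mem hm1)
    rw [eich_inv hδQ hδz, eich_mul hδQ hp (by rw [polar_neg_right, hδz, neg_zero]),
      show z - (2 * Q β) • (a₁ + a₂) + -z = (-(2 * Q β)) • (a₁ + a₂) by module] at hm3
    have hm4 := root_swap hδQ (by rw [form_smul, hα, mul_zero])
      (by rw [polar_smul_right, polar_comm Q δ (a₁ + a₂), hαδ, smul_zero]) hm3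
    rw [eich_smul_left hα (by rw [polar_neg_right, hαδ, neg_zero])] at hm4
    refine plane (-(2 * Q β)) (neg_ne_zero.mpr (mul_ne_zero h2 hβQ)) ?_
    rwa [show (-(2 * Q β)) • -δ = (-(2 * Q β)) • u + (2 * Q β) • (a₁ + a₂) by rw [hδ]; module,
      eich_add_smul hα (by rw [polar_smul_right, hαu, smul_zero])] at hm4
  by_cases hall : ∀ x ∈ W₁, polar Q u x = 0 → polar Q a₁ x = 0 → polar Q x β = 0
  swap
  · simp only [not_forall] at hall
    obtain ⟨x, hx, hux, hax, hxb⟩ := hall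
    exact plane _ (neg_ne_zero.mpr hxb) (root_shift hα huQ hux huα
      (by rw [polar_add_right, polar_comm Q x a₁, hax, h.orth x hx a₂ ha₂, add_zero]) hαβ huβ hM
      (eich_mem₁ h hH hu hx huQ hux))
  -- the entry is orthogonal to the centre and singular: the roles change
  obtain ⟨b₁, hb₁, b₂, hb₂, rfl⟩ := h.exists_add β
  obtain ⟨f, hf, hfu, hfa⟩ := exists_partner h (u := u) (a := a₁) hu (fun hm => by
    obtain ⟨r, hr⟩ := Submodule.mem_span_singleton.mp hm
    have hr0 : r ≠ 0 := fun e => hu0 (by rw [← hr, e, zero_smul])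
    exact hun (Submodule.mem_span_singleton.mpr
      ⟨r⁻¹, by rw [← hr, smul_smul, inv_mul_cancel₀ hr0, one_smul]⟩)) ha₁
  have haa : polar Q a₁ a₁ ≠ 0 := by rw [polar_self_eq]; exact mul_ne_zero h2 ha₁Q
  obtain ⟨k, hk⟩ : ∃ k, k = polar Q a₁ b₁ / polar Q a₁ a₁ := ⟨_, rfl⟩
  obtain ⟨t, ht⟩ : ∃ t, t = polar Q f b₁ := ⟨_, rfl⟩
  have hb : b₁ - t • u - k • a₁ = 0 := by
    refine eq_zero_of_perp h
      (sub_mem (sub_mem hb₁ (W₁.smul_mem _ hu)) (W₁.smul_mem _ ha₁)) fun y hy => ?_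
    obtain ⟨r, hr⟩ : ∃ r, r = polar Q a₁ y / polar Q a₁ a₁ := ⟨_, rfl⟩
    have hy' : y - polar Q u y • f - r • a₁ ∈ W₁ :=
      sub_mem (sub_mem hy (W₁.smul_mem _ hf)) (W₁.smul_mem _ ha₁)
    have h3 := hall _ hy' (by
      simp [polar_sub_right, polar_smul_right, polar_comm Q u f, hfu, hua]) (by
      rw [polar_sub_right, polar_sub_right, polar_smul_right, polar_smul_right, polar_comm Q a₁ f,
        hfa, hr, smul_eq_mul, smul_eq_mul, div_mul_cancel₀ _ haa]
      ring)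
    rw [polar_add_right, h.orth _ hy' b₂ hb₂, add_zero, polar_sub_left, polar_sub_left,
      polar_smul_left, polar_smul_left, smul_eq_mul, smul_eq_mul, hr] at h3
    rw [polar_sub_left, polar_sub_left, polar_smul_left, polar_smul_left, smul_eq_mul, smul_eq_mul,
      polar_comm Q b₁ y, ht, hk]
    field_simp [haa] at h3 ⊢
    linear_combination h3
  have hb' : b₁ = t • u + k • a₁ := by
    rw [← sub_eq_zero, ← hb]; abel
  obtain ⟨γ, hγ⟩ : ∃ γ, γ = t • u + (b₂ - k • a₂) := ⟨_, rfl⟩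
  have hγe : γ = (b₁ + b₂) + (-k) • (a₁ + a₂) := by rw [hγ, hb']; module
  have hγQ : Q γ = 0 := by
    rw [hγe, form_add, form_smul, hβQ, hα, polar_smul_right, polar_comm, hαβ]; simp
  have hαγ : polar Q (a₁ + a₂) γ = 0 := by
    rw [hγe, polar_add_right, hαβ, polar_smul_right, polar_self_eq, hα]; simp
  have hγM : eich Q (a₁ + a₂) γ ∈ M := by rw [hγe, eich_add_smul hα hαβ]; exact hM
  have hsw := root_swap hα hγQ hαγ hγM
  have hγp : polar Q γ (-(a₁ + a₂)) = 0 := by rw [polar_neg_right, polar_comm, hαγ, neg_zero]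
  have hγ0 : γ ≠ 0 := fun e => hβn k (by
    rw [← sub_eq_zero, sub_eq_add_neg, ← neg_smul, ← hγe, e])
  rw [neg_add] at hsw hγp
  by_cases hb2 : b₂ - k • a₂ = 0
  · have hγW : γ ∈ W₁ := by rw [hγ, hb2, add_zero]; exact W₁.smul_mem _ hu
    exact Or.inl (centre_of_entry h hH hγW hγQ hγ0 (neg_mem ha₁) (neg_mem ha₂)
      (neg_ne_zero.mpr ha₂0) hγp hsw)
  by_cases ht0 : t = 0
  · have hγW : γ ∈ W₂ := by
      rw [hγ, ht0, zero_smul, zero_add]; exact sub_mem hb₂ (W₂.smul_mem _ ha₂)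
    rw [add_comm (-a₁)] at hsw hγp
    exact Or.inr (centre_of_entry h.symm (hH_symm h hH) hγW hγQ hγ0 (neg_mem ha₂) (neg_mem ha₁)
      (neg_ne_zero.mpr ha₁0) hγp hsw)
  rw [hγ] at hsw hγp hγQ
  refine mixed_of_singular_components h hd hd' h2 hH (W₁.smul_mem t hu)
    (sub_mem hb₂ (W₂.smul_mem _ ha₂)) (smul_ne_zero ht0 hu0) hb2
    (by rw [form_smul, huQ, mul_zero]) hγQ hγp (fun r e => ?_) hsw
  have e1 : a₁ + r • (t • u) = 0 :=
    h.eq_zero (add_mem ha₁ (W₁.smul_mem _ (W₁.smul_mem _ hu))) (by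
      rw [show a₁ + r • (t • u) = -(a₂ + r • (b₂ - k • a₂)) by
        rw [← sub_eq_zero]
        have := sub_eq_zero.mpr e
        rw [← neg_eq_zero, ← this]; module]
      exact neg_mem (add_mem ha₂ (W₂.smul_mem _ (sub_mem hb₂ (W₂.smul_mem _ ha₂)))))
  exact hun (Submodule.mem_span_singleton.mpr ⟨-(r * t), by
    rw [eq_neg_of_add_eq_zero_left e1]; module⟩)

/-- A subgroup with the stabiliser and one more element contains `Ω`. -/
theorem eichGroup_le_of_sides {g : orth Q} (hg : g ∈ M) (hgW : ¬ ∀ x ∈ W₁, g.1 x ∈ W₁)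
    (hside : ¬ ∀ x ∈ W₁, g.1 x ∈ W₂) : eichGroup Q ≤ M := by
  classical
  have h5 : 5 ≤ Module.finrank F V := by
    have := Submodule.finrank_add_eq_of_isCompl h.compl; omega
  -- a centre reaching across
  have hmix : Mixed Q W₁ W₂ M := by
    by_contra hcon
    have key : ∀ u ∈ W₁, Q u = 0 → u ≠ 0 → ∀ z ∈ W₁, polar Q u z = 0 → (∀ r : F, z ≠ r • u) →
        (g.1 u ∈ W₁ ∧ g.1 z ∈ W₁) ∨ (g.1 u ∈ W₂ ∧ g.1 z ∈ W₂) := by
      intro u hu huQ hu0 z hz huz hzn
      by_contra hno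
      rw [not_or] at hno
      refine hcon (mixed_of_root h hd hd' h2 hH (by rw [map_form, huQ]) (by rw [map_polar, huz])
        (fun r e => hzn r (g.1.injective (by rw [e, map_smul])))
        (fun e => hu0 (g.1.map_eq_zero_iff.mp e)) ?_ hno.1 hno.2)
      rw [← conj_eich]
      exact mul_mem (mul_mem hg (eich_mem₁ h hH hu hz huQ huz)) (inv_mem hg)
    obtain ⟨e, he, heQ, he0, -⟩ := exists_sing_perp (Q := Q) (by omega) hd (0 : V)
    have hge : g.1 e ≠ 0 := fun h0 => he0 (g.1.map_eq_zero_iff.mp h0)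
    have same : ∀ a ∈ W₁, Q a = 0 →
        (g.1 e ∈ W₁ → g.1 a ∈ W₁) ∧ (g.1 e ∈ W₂ → g.1 a ∈ W₂) := by
      intro a ha haQ
      by_cases hae : ∃ r : F, a = r • e
      · obtain ⟨r, rfl⟩ := hae
        rw [map_smul]
        exact ⟨W₁.smul_mem r, W₂.smul_mem r⟩
      simp only [not_exists] at hae
      have ha0 : a ≠ 0 := fun e' => hae 0 (by rw [e', zero_smul])
      by_cases hea : polar Q e a = 0
      · rcases key e he heQ he0 a ha hea hae with ⟨s1, s2⟩ | ⟨s1, s2⟩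
        · exact ⟨fun _ => s2, fun h' => absurd (h.eq_zero s1 h') hge⟩
        · exact ⟨fun h' => absurd (h.eq_zero h' s1) hge, fun _ => s2⟩
      obtain ⟨z, ⟨⟨hz, hez⟩, haz⟩, hz0⟩ := Submodule.exists_mem_ne_zero_of_ne_bot
        (p := W₁ ⊓ LinearMap.ker (polarBilin Q e) ⊓ LinearMap.ker (polarBilin Q a)) (fun hbot => by
          have e1 := finrank_inf_ker W₁ (polarBilin Q e)
          have e2 := finrank_inf_ker (W₁ ⊓ LinearMap.ker (polarBilin Q e)) (polarBilin Q a)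
          rw [hbot, finrank_bot] at e2
          omega)
      simp only [SetLike.mem_coe, LinearMap.mem_ker, polarBilin_apply_apply] at hez haz
      have hze : ∀ r : F, z ≠ r • e := fun r e' => hz0 (by
        rw [e', polar_smul_right, polar_comm, smul_eq_mul] at haz
        rw [e', (mul_eq_zero.mp haz).resolve_right hea, zero_smul])
      have hza : ∀ r : F, z ≠ r • a := fun r e' => hz0 (by
        rw [e', polar_smul_right, smul_eq_mul] at hez
        rw [e', (mul_eq_zero.mp hez).resolve_right hea, zero_smul])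
      have hgz : g.1 z ≠ 0 := fun h0 => hz0 (g.1.map_eq_zero_iff.mp h0)
      rcases key e he heQ he0 z hz hez hze with ⟨s1, s2⟩ | ⟨s1, s2⟩ <;>
        rcases key a ha haQ ha0 z hz haz hza with ⟨t1, t2⟩ | ⟨t1, t2⟩
      · exact ⟨fun _ => t1, fun h' => absurd (h.eq_zero s1 h') hge⟩
      · exact absurd (h.eq_zero s2 t2) hgz
      · exact absurd (h.eq_zero t2 s2) hgz
      · exact ⟨fun h' => absurd (h.eq_zero h' s1) hge, fun _ => t1⟩
    obtain ⟨z, ⟨hz, hez⟩, hzn⟩ := SetLike.not_le_iff_exists.mp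
      (show ¬ W₁ ⊓ LinearMap.ker (polarBilin Q e) ≤ Submodule.span F {e} from fun hle => by
        have e1 := finrank_inf_ker W₁ (polarBilin Q e)
        have e2 := Submodule.finrank_mono hle
        rw [finrank_span_singleton he0] at e2
        omega)
    rcases key e he heQ he0 z hz hez
        (fun r e' => hzn (Submodule.mem_span_singleton.mpr ⟨r, e'.symm⟩)) with ⟨s1, -⟩ | ⟨s1, -⟩
    · exact hgW fun x hx => le_of_sing h (by omega) h2 (S := W₁.comap g.1.toLinearMap)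
        (fun x hx hxQ => (same x hx hxQ).1 s1) hx
    · exact hside fun x hx => le_of_sing h (by omega) h2 (S := W₂.comap g.1.toLinearMap)
        (fun x hx hxQ => (same x hx hxQ).2 s1) hx
  -- exchange the sides through singular vectors
  have cross : ∀ {A B : Submodule F V}, IsOrthPair Q A B → 3 ≤ Module.finrank F A →
      3 ≤ Module.finrank F B → (∀ g ∈ eichGroup Q, (∀ x ∈ A, g.1 x ∈ A) → g ∈ M) →
      Centre Q A B M → ∀ w ∈ B, Q w = 0 → w ≠ 0 → ∀ z ∈ A, eich Q w z ∈ M := by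
    intro A B hp hA hB hH' hc w hw hwQ hw0
    obtain ⟨d, hdA, hdQ, hd0, y, hy, hy0, hdy⟩ := hc
    exact centre_all hp.symm hA h2 (hH_symm hp hH') hw hwQ (neg_mem hdA) (neg_ne_zero.mpr hd0)
      (root_swap hdQ hwQ (hp.orth d hdA w hw)
        (centre_all hp hB h2 hH' hdA hdQ hy hy0 hdy w hw))
  have back : ∀ {A B : Submodule F V}, IsOrthPair Q A B → 3 ≤ Module.finrank F A →
      3 ≤ Module.finrank F B → (∀ g ∈ eichGroup Q, (∀ x ∈ A, g.1 x ∈ A) → g ∈ M) →
      Centre Q A B M → Centre Q B A M := by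
    intro A B hp hA hB hH' hc
    obtain ⟨w, hw, hw0, hwQ⟩ := exists_singular_mem (Q := Q) B hB
    obtain ⟨d, hdA, -, hd0, -⟩ := id hc
    exact ⟨w, hw, hwQ, hw0, d, hdA, hd0, cross hp hA hB hH' hc w hw hwQ hw0 d hdA⟩
  have hd₁ : 3 ≤ Module.finrank F W₁ := by omega
  obtain ⟨hC₁, hC₂⟩ : Centre Q W₁ W₂ M ∧ Centre Q W₂ W₁ M := by
    rcases hmix with hm | hm
    · exact ⟨hm, back h hd₁ hd' hH hm⟩
    · exact ⟨back h.symm hd' hd₁ (hH_symm h hH) hm, hm⟩
  -- every singular vector of a side reaches everything orthogonal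
  have hfull : ∀ {A B : Submodule F V}, IsOrthPair Q A B → 3 ≤ Module.finrank F A →
      3 ≤ Module.finrank F B → (∀ g ∈ eichGroup Q, (∀ x ∈ A, g.1 x ∈ A) → g ∈ M) →
      Centre Q B A M → ∀ u ∈ A, Q u = 0 → ∀ z, polar Q u z = 0 → eich Q u z ∈ M := by
    intro A B hp hA hB hH' hc u hu huQ z huz
    by_cases hu0 : u = 0
    · have : eich Q u z = 1 := orth_ext fun x => by
        rw [eich_apply huQ huz, hu0]; simp
      rw [this]; exact one_mem M
    obtain ⟨p, hp', q, hq, rfl⟩ := hp.exists_add z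
    have hup : polar Q u p = 0 := by
      rw [polar_add_right, hp.orth u hu q hq, add_zero] at huz; exact huz
    rw [← eich_mul huQ hup (hp.orth u hu q hq)]
    exact mul_mem (eich_mem₁ hp hH' hu hp' huQ hup)
      (cross hp.symm hB hA (hH_symm hp hH') hc u hu huQ hu0 q hq)
  have hf₁ := hfull h hd₁ hd' hH hC₂
  have hf₂ := hfull h.symm hd' hd₁ (hH_symm h hH) hC₁
  refine eichGroup_le_of_singular h.nd h5 fun u z huQ _ huz => ?_
  suffices hmove : ∃ k ∈ M, k.1 u ∈ W₁ ∨ k.1 u ∈ W₂ by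
    obtain ⟨k, hk, hku⟩ := hmove
    have h' : eich Q (k.1 u) (k.1 z) ∈ M := by
      rcases hku with hku | hku
      · exact hf₁ _ hku (by rw [map_form, huQ]) _ (by rw [map_polar, huz])
      · exact hf₂ _ hku (by rw [map_form, huQ]) _ (by rw [map_polar, huz])
    rw [← conj_eich] at h'
    simpa [mul_assoc] using mul_mem (mul_mem (inv_mem hk) h') hk
  obtain ⟨x, hx, w, hw, rfl⟩ := h.exists_add u
  by_cases hx0 : x = 0
  · exact ⟨1, one_mem M, Or.inr (by simpa [hx0] using hw)⟩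
  obtain ⟨s, hs, hsQ, hsx⟩ : ∃ s ∈ W₁, Q s = 0 ∧ polar Q s x = 1 := by
    obtain ⟨s, hs, hsQ, hne⟩ := exists_sing_dual h hd₁ h2 hx hx0
    exact ⟨(polar Q s x)⁻¹ • s, W₁.smul_mem _ hs, by rw [form_smul, hsQ, mul_zero],
      by rw [polar_smul_left, smul_eq_mul, inv_mul_cancel₀ hne]⟩
  have hsw : polar Q s (-w) = 0 := by rw [polar_neg_right, h.orth s hs w hw, neg_zero]
  refine ⟨eich Q s (-w), hf₁ s hs hsQ _ hsw, Or.inl ?_⟩
  rw [eich_apply hsQ hsw, polar_add_right Q s x w, hsx, h.orth s hs w hw, add_zero, one_smul,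
    show x + w + -w = x by abel]
  exact sub_mem (sub_mem hx (W₁.smul_mem _ hs)) (W₁.smul_mem _ hs)

end Main

section Mat

open Matrix

variable {ι : Type} [Fintype ι] [DecidableEq ι]
variable {Qm : QuadraticForm F (ι → F)} {X₁ X₂ : Submodule F (ι → F)}

/-- The stabiliser in `Ω` of a member of an orthogonal pair of dimensions at least four and three,
the first larger, is maximal. -/
theorem isMaximalIn_of_sides (h : IsOrthPair Qm X₁ X₂) (hd : 4 ≤ Module.finrank F X₁)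
    (hd' : 3 ≤ Module.finrank F X₂) (h2 : (2 : F) ≠ 0)
    (hns : ∀ g : orth Qm, ¬ ∀ x ∈ X₁, g.1 x ∈ X₂) :
    Geo.IsMaximalIn (Geo.omegaGL ⇑Qm) (Geo.subspaceStabilizer X₁ ⊓ Geo.omegaGL ⇑Qm) := by
  have h5 : 5 ≤ Module.finrank F (ι → F) := by
    have := Submodule.finrank_add_eq_of_isCompl h.compl; omega
  refine isMaximalIn_of_gen h.nd h5 X₁ ?_ fun M g hH hg hgW =>
    eichGroup_le_of_sides h hd hd' h2 hH hg hgW (hns g)
  obtain ⟨d, hd0W, hdQ, hd0, -⟩ := exists_sing_perp (Q := Qm) (by omega) hd (0 : ι → F)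
  obtain ⟨c, hc, hcd, -⟩ := h.exists_dual (S := ⊥) hd0W (by simpa using hd0)
  have hX₂ : X₂ ≠ ⊥ := fun e => by rw [e, finrank_bot] at hd'; omega
  obtain ⟨z, hz, hz0⟩ := (Submodule.ne_bot_iff _).mp hX₂
  have hdz := h.orth d hd0W z hz
  refine ⟨eich Qm d z, eich_mem_eichGroup _ _, fun hall => hz0 (h.eq_zero ?_ hz)⟩
  have h1 := hall c hc
  rw [eich_apply hdQ hdz, polar_comm Qm d c, hcd, polar_comm Qm z c, h.orth c hc z hz] at h1
  simp only [one_smul, zero_smul, sub_zero, mul_one] at h1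
  have h3 := add_mem (sub_mem h1 hc) (X₁.smul_mem (Qm z) hd0W)
  rwa [show c + z - Qm z • d - c + Qm z • d = z by abel] at h3

end Mat

end Cfsg.Agent.OmegaOdd35
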