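import Cfsg.Agent.Omega8Minus50.Subspaces
import Cfsg.Agent.MaxSub.OrthStabGL
import Cfsg.Agent.MaxSub.OrthVectorGL
import Cfsg.Agent.ODec35.Main
import Cfsg.Agent.OmegaOdd35.Sides
import Cfsg.Agent.Omega8Minus50.Sub.GL

/-!
The geometric clauses for `Ω₂ₘ₊₁(q)`, small `m` allowed (helper35).
-/

set_option autoImplicit false
set_option linter.unusedSectionVars false

namespace Cfsg.Agent.OmegaOdd35

open QuadraticMap Cfsg.Agent.UnitaryOrthogonal Cfsg.Agent.OrthStab

variable {F : Type*} [Field F] [Fintype F] {m : ℕ}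

theorem finrank_eq (m : ℕ) :
    Module.finrank F (Unit ⊕ (Fin m ⊕ Fin m) → F) = 2 * m + 1 := by simp; omega

theorem polarND_qOdd (hodd : Odd (Fintype.card F)) : PolarND (qOdd m F) :=
  ((polarND_sqForm (two_ne_zero_of_card_odd hodd)).hypSum m).congr (qOddIso m F).symm

/-- Totally singular subspaces. -/
theorem singular (hodd : Odd (Fintype.card F)) (hm : 2 ≤ m)
    {W : Submodule F (Unit ⊕ (Fin m ⊕ Fin m) → F)} (hW0 : W ≠ ⊥)
    (hW : Geo.IsTotallySingularQuad (Cfsg.quadFormOdd m F) W) :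
    Geo.IsMaximalIn (Geo.omegaGL (Cfsg.quadFormOdd m F))
      (Geo.subspaceStabilizer W ⊓ Geo.omegaGL (Cfsg.quadFormOdd m F)) := by
  have hcoe : Cfsg.quadFormOdd m F = ⇑(qOdd m F) := funext fun v => (qOdd_apply m v).symm
  have hfin := finrank_eq (F := F) m
  have hnd := polarND_qOdd (m := m) hodd
  rw [hcoe] at hW ⊢
  refine OrthStab.singular_isMaximalIn hnd (by omega) hW hW0 fun u hu huW hperp => ?_
  have := OrthStab.two_mul_finrank_le hnd (OrthStab.singular_sup hW hu hperp)
  rw [OrthStab.finrank_sup_singleton huW] at this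
  omega

/-- Non-degenerate subspaces of even dimension. -/
theorem subspace (hodd : Odd (Fintype.card F)) (hm : 3 ≤ m)
    {W : Submodule F (Unit ⊕ (Fin m ⊕ Fin m) → F)} (hW0 : W ≠ ⊥)
    (hev : Even (Module.finrank F W))
    (hW : Geo.IsNondegenerateOn (polar (Cfsg.quadFormOdd m F)) W)
    (hex : ¬ (Fintype.card F = 3 ∧ Module.finrank F W = 2 ∧
      Geo.IsPlusTypeOn (Cfsg.quadFormOdd m F) W)) :
    Geo.IsMaximalIn (Geo.omegaGL (Cfsg.quadFormOdd m F))
      (Geo.subspaceStabilizer W ⊓ Geo.omegaGL (Cfsg.quadFormOdd m F)) := by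
  have hcoe : Cfsg.quadFormOdd m F = ⇑(qOdd m F) := funext fun v => (qOdd_apply m v).symm
  have hfin := finrank_eq (F := F) m
  have hnd := polarND_qOdd (m := m) hodd
  rw [hcoe] at hW hex ⊢
  set Q := qOdd m F
  have hf : Geo.IsBilinearForm (polar ⇑Q) :=
    { add_left := polar_add_left Q
      smul_left := fun c x v => by rw [polar_smul_left, smul_eq_mul]
      add_right := fun v x y => polar_add_right Q v x y
      smul_right := fun c v x => by rw [polar_smul_right, smul_eq_mul] }
  have hn : Geo.IsNondegenerateForm (polar ⇑Q) := fun v hv => by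
    obtain ⟨x, hx⟩ : ∃ x, polar Q v x ≠ 0 := by
      by_contra hc
      simp only [not_exists, not_not] at hc
      exact hv (hnd v hc)
    exact ⟨⟨x, by rwa [polar_comm]⟩, x, hx⟩
  set W' := MaxSub.orth hf W
  have hp : IsOrthPair Q W W' := by
    refine ⟨hnd, ⟨Submodule.disjoint_def.mpr fun v hv hv' => ?_,
      codisjoint_iff.mpr (eq_top_iff.mpr fun x _ => ?_)⟩, fun x hx y hy => ?_⟩
    · by_contra hne
      obtain ⟨y, hy, hy'⟩ := (hW v hv hne).2
      exact hy' (MaxSub.mem_orth.mp hv' y hy)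
    · obtain ⟨a, ha, b, hb, rfl⟩ := MaxSub.exists_orth_decomp hf hn hW x
      exact Submodule.add_mem_sup ha hb
    · rw [polar_comm]; exact MaxSub.mem_orth.mp hy x hx
  have hsum := Submodule.finrank_add_eq_of_isCompl hp.compl
  rw [hfin] at hsum
  obtain ⟨j, hj⟩ := hev
  have hW'0 : W' ≠ ⊥ := fun e => by
    rw [e, finrank_bot] at hsum; omega
  have hmove : ∀ {A B : Submodule F (Unit ⊕ (Fin m ⊕ Fin m) → F)} (g : orth Q),
      Module.finrank F B ≠ Module.finrank F A → Module.finrank F B < Module.finrank F A →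
      ¬ ∀ x ∈ A, g.1 x ∈ B := fun {A B} g _ hlt hg => by
    have := LinearMap.finrank_le_finrank_of_injective (f := g.1.toLinearMap.restrict hg)
      fun a b hab => Subtype.ext (g.1.injective (congrArg Subtype.val hab))
    omega
  by_cases hbig : ¬ (5 ≤ Module.finrank F W ∨ Module.finrank F W + 5 ≤ 2 * m + 1)
  · exact isMaximalIn_of_sides hp (by omega) (by omega) (two_ne_zero_of_card_odd hodd)
      (fun g => hmove g (by omega) (by omega))
  rw [not_not] at hbig
  by_cases h5 : 5 ≤ Module.finrank F W ∧ Module.finrank F W' ≤ Module.finrank F W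
  · refine Omega8Minus50.isMaximalIn_of_orthPair hp (Omega8Minus50.hasLine_of_five hp h5.1)
      (by omega) (Omega8Minus50.mixCond_of_five hp h5.1) hW'0 (fun _ h2 => ?_)
      (fun g => hmove g (by omega) (by omega))
    omega
  · have hW'5 : 5 ≤ Module.finrank F W' := by
      rcases hbig with h | h
      · rcases le_or_gt (Module.finrank F W') (Module.finrank F W) with h' | h'
        · exact absurd ⟨h, h'⟩ h5
        · omega
      · omega
    have hlt : Module.finrank F W < Module.finrank F W' := by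
      rcases le_or_gt (Module.finrank F W') (Module.finrank F W) with h' | h'
      · exact absurd ⟨by omega, h'⟩ h5
      · exact h'
    have hstab : Geo.subspaceStabilizer W' ⊓ Geo.omegaGL ⇑Q =
        Geo.subspaceStabilizer W ⊓ Geo.omegaGL ⇑Q := by
      ext g
      constructor <;> rintro ⟨hs, hg⟩ <;> obtain ⟨g₀, hg₀, rfl⟩ := hg
      · exact ⟨(mem_stab_iff g₀ W).mpr (hp.symm.map_mem₂ _ ((mem_stab_iff g₀ W').mp hs)),
          g₀, hg₀, rfl⟩
      · exact ⟨(mem_stab_iff g₀ W').mpr (hp.map_mem₂ _ ((mem_stab_iff g₀ W).mp hs)),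
          g₀, hg₀, rfl⟩
    rw [← hstab]
    refine Omega8Minus50.isMaximalIn_of_orthPair hp.symm (Omega8Minus50.hasLine_of_five hp.symm hW'5)
      (by omega) (Omega8Minus50.mixCond_of_five hp.symm hW'5) hW0 (fun hc h2 x hx hxQ => ?_)
      (fun g => hmove g (by omega) hlt)
    by_contra hx0
    rw [Nat.card_eq_fintype_card] at hc
    obtain ⟨i, hi⟩ := hodd
    have := Fintype.one_lt_card (α := F)
    refine hex ⟨by omega, h2, Submodule.span F {x},
      Submodule.span_le.mpr (Set.singleton_subset_iff.mpr hx), fun w hw => ?_, ?_⟩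
    · obtain ⟨r, rfl⟩ := Submodule.mem_span_singleton.mp hw
      rw [form_smul, hxQ, mul_zero]
    · rw [finrank_span_singleton hx0, h2]

/-- Orthogonal decompositions into lines. -/
theorem lines (hodd : Odd (Fintype.card F)) (hm : 3 ≤ m) (hprime : (Fintype.card F).Prime) {t : ℕ}
    {D : Fin t → Submodule F (Unit ⊕ (Fin m ⊕ Fin m) → F)}
    (hD : Geo.IsOrthogonalMDecomposition (Cfsg.quadFormOdd m F) 1 D) :
    Geo.IsMaximalIn (Geo.omegaGL (Cfsg.quadFormOdd m F))
      (Geo.decompositionStabilizer D ⊓ Geo.omegaGL (Cfsg.quadFormOdd m F)) := by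
  have P := ODec24.primeOdd_of_card hprime hodd
  have hcoe : Cfsg.quadFormOdd m F = ⇑(qOdd m F) := funext fun v => (qOdd_apply m v).symm
  rw [hcoe] at hD ⊢
  exact ODec35.lines_isMaximalIn P (polarND_qOdd hodd)
    (Or.inl ⟨⟨m, by simp; omega⟩, by simp; omega⟩) hD

/-- Subfield groups in dimension at least seven. -/
theorem subfield (hodd : Odd (Fintype.card F)) (hm : 3 ≤ m) {F₀ : Subfield F} {r : ℕ} (hr : r.Prime)
    (hcard : Fintype.card F = Nat.card F₀ ^ r)
    {P : Matrix.GeneralLinearGroup (Unit ⊕ (Fin m ⊕ Fin m)) F}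
    (hP : Geo.IsQuadFormRationalStructure (Cfsg.quadFormOdd m F) F₀ P) :
    Geo.IsMaximalIn (Geo.omegaGL (Cfsg.quadFormOdd m F))
      (Geo.subfieldSubgroup F₀ P ⊓ Geo.omegaGL (Cfsg.quadFormOdd m F)) := by
  classical
  have hcoe : Cfsg.quadFormOdd m F = ⇑(qOdd m F) := funext fun v => (qOdd_apply m v).symm
  rw [hcoe] at hP ⊢
  exact Omega8Minus50.Sub.isMaximal_subfield_seven (qOdd m F) (polarND_qOdd hodd) (by simp; omega) hr
    (by rw [Nat.card_eq_fintype_card]; exact hcard) hP

end Cfsg.Agent.OmegaOdd35
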