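import Cfsg.Agent.MaxSub.Wreath

/-!
Orthogonal wreath decompositions of odd dimensional spaces, dimension at least nine (helper35, after
helper24's S5677).
-/

set_option autoImplicit false
set_option linter.unusedSectionVars false
open Cfsg

namespace Cfsg.Agent.OmegaOdd35

/-- Decompositions into at least two isometric orthogonal members of dimension over one. -/
theorem wreath {F : Type*} [Field F] [Fintype F] (hodd : Odd (Fintype.card F)) (m : ℕ) (hm : 4 ≤ m) {t : ℕ} (k : ℕ) (hk : 1 < k) (D : Fin t → Submodule F (Unit ⊕ (Fin m ⊕ Fin m) → F)) (hD : Cfsg.Geo.IsOrthogonalMDecomposition (Cfsg.quadFormOdd m F) k D) (hex : ¬ (Fintype.card F = 3 ∧ k = 3)) : Cfsg.Geo.IsMaximalIn (Cfsg.Geo.omegaGL (Cfsg.quadFormOdd m F)) (Cfsg.Geo.decompositionStabilizer D ⊓ Cfsg.Geo.omegaGL (Cfsg.quadFormOdd m F)) := by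
  classical
  have h2 : (2 : F) ≠ 0 := UnitaryOrthogonal.two_ne_zero_of_card_odd hodd
  have hcoe : Cfsg.quadFormOdd m F = ⇑(UnitaryOrthogonal.qOdd m F) :=
    funext fun v => (UnitaryOrthogonal.qOdd_apply m v).symm
  rw [hcoe] at hD ⊢
  set Qf := UnitaryOrthogonal.qOdd m F
  have hnd : UnitaryOrthogonal.PolarND Qf :=
    ((UnitaryOrthogonal.polarND_sqForm h2).hypSum m).congr (UnitaryOrthogonal.qOddIso m F).symm
  obtain ⟨⟨hdec, hndeg, horth⟩, hiso⟩ := hD
  obtain ⟨ht2, hkpos, hfin, hindep, hsup⟩ := hdec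
  have hV : Module.finrank F (Unit ⊕ (Fin m ⊕ Fin m) → F) = 2 * m + 1 := by simp; omega
  have htk : 2 * m + 1 = t * k := by
    have hint := DirectSum.isInternal_submodule_of_iSupIndep_of_iSup_eq_top hindep hsup
    have e := (LinearEquiv.ofBijective (DirectSum.coeLinearMap D) hint).finrank_eq
    rw [Module.finrank_directSum, hV] at e
    simp [hfin] at e
    omega
  have hq : 3 ≤ Fintype.card F := by
    obtain ⟨r, hr⟩ := hodd
    have := Fintype.one_lt_card (α := F)
    omega
  have hk3 : 3 ≤ k := by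
    rcases Nat.lt_or_ge k 3 with h | h
    · obtain rfl : k = 2 := by omega
      omega
    · exact h
  have ht3 : 3 ≤ t := by
    rcases Nat.lt_or_ge t 3 with h | h
    · obtain rfl : t = 2 := by omega
      omega
    · exact h
  have hsys : Wreath.IsSys Qf k D :=
    { nd := hnd
      two := h2
      dim := hfin
      ndOn := fun i s hs h => by
        by_contra hs0
        obtain ⟨x, hx, hne⟩ := (hndeg i s hs hs0).2
        exact hne (h x hx)
      orth := horth
      top := hsup
      iso := hiso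
      three := hk3
      three_t := ht3
      big := by omega
      small := by
        rw [Nat.card_eq_fintype_card]
        rcases Nat.lt_or_ge k 5 with h | h
        · have hk3' : k = 3 := by
            rcases Nat.lt_or_ge k 4 with h' | h'
            · omega
            · obtain rfl : k = 4 := by omega
              omega
          left
          by_contra hlt
          exact hex ⟨by omega, hk3'⟩
        · exact Or.inr h }
  have h5 : 5 ≤ Module.finrank F (Unit ⊕ (Fin m ⊕ Fin m) → F) := by omega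
  have hmem : ∀ g₀ : Cfsg.isometryGroup F ⇑Qf, Wreath.Perm D (OrthStab.toOrth g₀) →
      g₀.1 ∈ Cfsg.Geo.decompositionStabilizer D := by
    intro g₀ hp
    choose l hl using hp
    have hmap : ∀ i, (D i).map (Matrix.toLin' (Units.val g₀.1)) = D (l i) := fun i => by
      refine Submodule.eq_of_le_of_finrank_eq ?_ ?_
      · rintro _ ⟨x, hx, rfl⟩
        rw [Matrix.toLin'_apply]
        exact hl i x hx
      · rw [hfin, ← hfin i]
        exact LinearEquiv.finrank_map_eq (OrthStab.toOrth g₀).1 (D i)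
    have hinj : Function.Injective l := by
      intro i i' h
      by_contra hne
      have : (D i).map (Matrix.toLin' (Units.val g₀.1)) =
          (D i').map (Matrix.toLin' (Units.val g₀.1)) := by rw [hmap, hmap, h]
      have heq := Submodule.map_injective_of_injective (fun x y h => Cfsg.Agent.MaxSub.mulVec_injective g₀.1 (by simpa using h)) this
      obtain ⟨s, hs, hs0⟩ := (D i).ne_bot_iff.mp fun h0 => by
        have := hfin i
        rw [h0, finrank_bot] at this
        omega
      refine hs0 (hsys.ndOn i s hs fun y hy => ?_)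
      exact horth i i' hne s hs y (heq ▸ hy)
    exact ⟨Equiv.ofBijective l hinj.bijective_of_finite, hmap⟩
  have hperm : ∀ g₀ : Cfsg.isometryGroup F ⇑Qf, g₀.1 ∈ Cfsg.Geo.decompositionStabilizer D →
      Wreath.Perm D (OrthStab.toOrth g₀) := by
    rintro g₀ ⟨σ, hσ⟩ i
    refine ⟨σ i, fun x hx => ?_⟩
    have := Submodule.mem_map_of_mem (f := Matrix.toLin' (Units.val g₀.1)) hx
    rw [hσ i, Matrix.toLin'_apply] at this
    exact this
  refine ⟨lt_of_le_of_ne inf_le_right fun e => ?_, fun M hle hMΩ => ?_⟩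
  · -- a root element leaving a member
    let i₀ : Fin t := ⟨0, by omega⟩
    let i₁ : Fin t := ⟨1, by omega⟩
    have hi : i₀ ≠ i₁ := fun h => by simpa [i₀, i₁] using congrArg Fin.val h
    obtain ⟨p, hp, hpQ, hp0, f, hf, hfQ, hpf⟩ :=
      Wreath.exists_hyper h2 (hsys.ndOn i₀) (by rw [hfin]; exact hk3)
    obtain ⟨z, hz, hzQ⟩ := Wreath.exists_aniso h2 (hsys.ndOn i₁) (by rw [hfin]; omega)
    have hpz : QuadraticMap.polar Qf p z = 0 := horth i₀ i₁ hi p hp z hz
    have hzf : QuadraticMap.polar Qf z f = 0 := horth i₁ i₀ hi.symm z hz f hf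
    obtain ⟨g₀, hg₀, hgeq⟩ := OrthStab.exists_lift hnd h5
      (UnitaryOrthogonal.eich_mem_eichGroup (Q := Qf) p z)
    rw [← e] at hg₀
    obtain ⟨l, hl⟩ := hperm g₀ hg₀.1 i₀
    rw [hgeq] at hl
    have h1 := hl p hp
    have h3 := hl f hf
    rw [UnitaryOrthogonal.eich_apply hpQ hpz, hzf] at h3
    rw [UnitaryOrthogonal.eich_apply hpQ hpz, UnitaryOrthogonal.polar_self_eq, hpQ,
      QuadraticMap.polar_comm, hpz] at h1
    simp only [mul_zero, zero_smul, add_zero, sub_zero] at h1
    have hl0 : l = i₀ := by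
      by_contra hne
      exact hp0 (hsys.ndOn i₀ p hp fun y hy => by
        rw [QuadraticMap.polar_comm]
        exact horth i₀ l (Ne.symm hne) y hy p h1)
    subst hl0
    rw [hpf] at h3
    simp only [one_smul, zero_smul, sub_zero, mul_one] at h3
    have hzi : z ∈ D i₀ := by
      have h4 := add_mem (sub_mem h3 hf) ((D i₀).smul_mem (Qf z) hp)
      rwa [show f + z - Qf z • p - f + Qf z • p = z by abel] at h4
    have := horth i₀ i₁ hi z hzi z hz
    rw [UnitaryOrthogonal.polar_self_eq] at this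
    exact mul_ne_zero h2 hzQ this
  · by_cases hMH : M = Cfsg.Geo.decompositionStabilizer D ⊓ Cfsg.Geo.omegaGL ⇑Qf
    · exact Or.inl hMH
    obtain ⟨g, hgM, hgH⟩ := SetLike.exists_of_lt (lt_of_le_of_ne hle (Ne.symm hMH))
    obtain ⟨g₀, hg₀, rfl⟩ := hMΩ hgM
    let M' : Subgroup (UnitaryOrthogonal.orth Qf) :=
      (M.comap (Cfsg.isometryGroup F ⇑Qf).subtype).map
        (UnitaryOrthogonal.isometryGroupEquiv Qf (f := ⇑Qf) (fun _ => rfl)).toMonoidHom
    have hM' : ∀ h ∈ UnitaryOrthogonal.eichGroup Qf, Wreath.Perm D h → h ∈ M' := fun h hh hp => by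
      obtain ⟨h₀, hh₀, rfl⟩ := OrthStab.exists_lift hnd h5 hh
      exact ⟨h₀, hle ⟨hmem h₀ hp, hh₀⟩, rfl⟩
    have hgen := Wreath.eichGroup_le hsys hM' (g := OrthStab.toOrth g₀) ⟨g₀, hgM, rfl⟩
      fun h => hgH ⟨hmem g₀ h, hMΩ hgM⟩
    refine Or.inr (le_antisymm hMΩ ?_)
    rintro _ ⟨g₁, hg₁, rfl⟩
    obtain ⟨g₂, hg₂, hgg⟩ := hgen ((OrthStab.mem_omega_iff hnd h5 g₁).mp hg₁)
    exact ((UnitaryOrthogonal.isometryGroupEquiv Qf (f := ⇑Qf) (fun _ => rfl)).injective hgg) ▸ hg₂

end Cfsg.Agent.OmegaOdd35
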