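import Cfsg.Agent.OmegaOdd35.Omega9
import Cfsg.Agent.WreathO.Transfer

/-!
The tensor wreath clause for `Ω₉(q)`, from the standard core (helper35).
-/

set_option autoImplicit false
open Cfsg

namespace Cfsg.Agent.OmegaOdd35

open WreathO MaxSub.Asch FG75.SpinTensor WreathMax

/-- The tensor squares of symmetric forms on `F^3` have maximal stabilisers, given the core. -/
theorem tensorWreath9 {F : Type*} [Field F] [Fintype F] (hodd : Odd (Fintype.card F))
    (h5 : 5 ≤ Fintype.card F)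
    (hcore : ∀ P : WreathO.Std 3 F, P.Good → ∀ H : Subgroup (GL (Fin 2 → Fin 3) F),
      H ≤ Om (powS P.S 2) → ContainsW P.S H → ¬ H ≤ Geo.tensorWreathStandard 3 2 F →
        Om (powS P.S 2) ≤ H)
    (e : (Unit ⊕ (Fin 4 ⊕ Fin 4)) ≃ (Fin 2 → Fin 3))
    (P : Matrix.GeneralLinearGroup (Unit ⊕ (Fin 4 ⊕ Fin 4)) F)
    (f₁ : (Fin 3 → F) → (Fin 3 → F) → F) (hf₁ : Geo.IsSymmetricForm f₁)
    (hT : Geo.IsTensorPowerFormStructure id (QuadraticMap.polar (Cfsg.quadFormOdd 4 F)) f₁ e P) :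
    Geo.IsMaximalIn (Geo.omegaGL (Cfsg.quadFormOdd 4 F))
      (Geo.tensorWreathSubgroup 3 2 e P ⊓ Geo.omegaGL (Cfsg.quadFormOdd 4 F)) := by
  refine isMaximalIn_of_core (fun c v => ?_) (UnitaryOrthogonal.two_ne_zero_of_card_odd hodd)
    le_rfl le_rfl (fun h => by omega) e P f₁ hf₁ (fun h => by omega) hT hcore
  rw [← UnitaryOrthogonal.qOdd_apply, ← UnitaryOrthogonal.qOdd_apply, QuadraticMap.map_smul,
    smul_eq_mul, pow_two]

end Cfsg.Agent.OmegaOdd35
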